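import Groth.Prelude.Def_StCurv2
import Groth.Agent.AlgSpDesc.ResTrdeg
import Groth.Agent.AlgSpc.DecentMor
import Groth.Agent.AlgSpc.Misc2

/-!
# Field-valued points of spaces of bounded relative dimension over a field
-/

set_option autoImplicit false
set_option linter.style.haveILetI false
set_option backward.isDefEq.respectTransparency false
set_option backward.isDefEq.respectTransparency.types false

universe u

open CategoryTheory CategoryTheory.Limits AlgebraicGeometry Opposite

namespace Groth.Agent.EssDimFib

open _root_.AlgSp Groth.Agent.AlgSpc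

variable {S : Scheme.{u}}

theorem trdeg_residue_le {K : Type u} [Field K] {U : Scheme.{u}} (h : U ⟶ Spec (CommRingCat.of K))
    (u : U) (φ : CommRingCat.of K ⟶ U.residueField u) (hφ : Spec.map φ = U.fromSpecResidueField u ≫ h) :
    (letI := φ.hom.toAlgebra; Algebra.trdeg K (U.residueField u)) ≤ Dual3.resTrdeg h u := by
  let σ := Spec.preimage ((Spec (CommRingCat.of K)).fromSpecResidueField (h u))
  have hσ : Spec.map σ = (Spec (CommRingCat.of K)).fromSpecResidueField (h u) := Spec.map_preimage _
  have hfin : σ.hom.Finite := by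
    rw [← IsFinite.SpecMap_iff, hσ]
    haveI : IsClosedImmersion ((Spec (CommRingCat.of K)).fromSpecResidueField (h u)) :=
      IsClosedImmersion.of_isPreimmersion _ (isClosed_discrete _)
    infer_instance
  have e : φ = σ ≫ h.residueFieldMap u := Spec.map_injective (by
    rw [Spec.map_comp, hσ, hφ, Scheme.Hom.SpecMap_residueFieldMap_fromSpecResidueField])
  let A := (Spec (CommRingCat.of K)).residueField (h u)
  letI : Algebra K A := σ.hom.toAlgebra
  letI : Algebra A (U.residueField u) := (h.residueFieldMap u).hom.toAlgebra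
  letI : Algebra K (U.residueField u) := φ.hom.toAlgebra
  haveI : IsScalarTower K A (U.residueField u) := IsScalarTower.of_algebraMap_eq fun a => by
    change φ.hom a = _
    rw [e]; rfl
  haveI : Module.Finite K A := hfin
  haveI : Algebra.IsAlgebraic K A := inferInstance
  have h1 := trdeg_add_eq K A (A := U.residueField u)
  rw [trdeg_eq_zero, zero_add] at h1
  exact h1.ge

/-- Points with values in a field factor through residue fields of bounded transcendence degree. -/
theorem exists_residue_factor {K L : Type u} [Field K] [Field L] {strK : Spec (CommRingCat.of K) ⟶ S}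
    {strL : Spec (CommRingCat.of L) ⟶ S} {W : Sp S} (hW : IsAlgSpace W)
    (π : W ⟶ (yon S).obj (Over.mk strK)) (hl : LocP @LocallyOfFiniteType π)
    (hq : IsQuasiSeparatedMor π) (d : ℕ) (hd : CurvSt.RelDimLE d π)
    (l : (yon S).obj (Over.mk strL) ⟶ W) :
    ∃ (κ : Type u) (_ : Field κ) (str : Spec (CommRingCat.of κ) ⟶ S)
      (q : (yon S).obj (Over.mk str) ⟶ W) (c : Over.mk strL ⟶ Over.mk str),
      (yon S).map c ≫ q = l ∧
        (letI := (Spec.preimage (pre (q ≫ π)).left).hom.toAlgebra; Cardinal.toENat (Algebra.trdeg K κ)) ≤ d := by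
  haveI : IsAffine (Over.mk strK).left := inferInstanceAs (IsAffine (Spec (CommRingCat.of K)))
  let q₀ : FieldPt W := { K := L, str := strL, val := (J S).uliftYonedaEquiv l }
  obtain ⟨p, hp, hm, -⟩ := isDecent_of_qs_over_affine hW π hq (Points.mk q₀)
  haveI := hm
  obtain ⟨c, hc, -⟩ := existsUnique_factor_of_mono hW p q₀ hp
  refine ⟨p.K, p.field, p.str, p.toHom, c,
    hc.trans ((J S).uliftYonedaEquiv.symm_apply_apply l), ?_⟩
  obtain ⟨U, a, ha, has⟩ := hW.atlas
  obtain ⟨u, hu⟩ := surjective_ofPt has (Points.mk p)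
  obtain ⟨c', hc', -⟩ := existsUnique_factor_of_mono hW p (FieldPt.ofPt a u) hu.symm
  rw [FieldPt.toHom_ofPt] at hc'
  let h : U ⟶ Over.mk strK := pre (a ≫ π)
  have w : a ≫ π = (yon S).map h ≫ 𝟙 _ := by rw [map_pre, Category.comp_id]
  have hb : RepWith @Etale (𝟙 ((yon S).obj (Over.mk strK))) := repWith_iso _
  haveI : LocallyOfFiniteType h.left := hl a (𝟙 _) h ha hb w
  have hdim : FlatMor.fibreDimAt h.left u ≤ (d : WithBot ℕ∞) :=
    (AlgSpDesc.hasAtMor_fibreDimAt_iff (fun z => z ≤ (d : WithBot ℕ∞)) ha hb w u).1 (hd _)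
  have htr : Cardinal.toENat (Dual3.resTrdeg h.left u) ≤ (d : ℕ∞) := by
    rw [AlgSpDesc.fibreDimAt_eq_stalk_add_resTrdeg] at hdim
    exact WithBot.coe_le_coe.1 ((le_add_of_nonneg_left ringKrullDim_nonneg_of_nontrivial).trans hdim)
  let g := pre (p.toHom ≫ π)
  have hg : c'.left ≫ g.left = U.left.fromSpecResidueField u ≫ h.left := by
    have e : c' ≫ g = (Over.homMk (U.left.fromSpecResidueField u) rfl :
        Over.mk (U.left.fromSpecResidueField u ≫ U.hom) ⟶ U) ≫ h := (yon S).map_injective (by
      rw [Functor.map_comp, Functor.map_comp, map_pre, map_pre, ← Category.assoc]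
      exact (congrArg (· ≫ π) hc').trans (Category.assoc _ _ _))
    exact congrArg CommaMorphism.left e
  let ι : CommRingCat.of K ⟶ CommRingCat.of p.K := Spec.preimage g.left
  let j : CommRingCat.of p.K ⟶ U.left.residueField u := Spec.preimage c'.left
  let φ := ι ≫ j
  have hφ : Spec.map φ = U.left.fromSpecResidueField u ≫ h.left := by
    simp only [φ, ι, j, Spec.map_comp, Spec.map_preimage]
    exact hg
  have h1 := trdeg_residue_le h.left u φ hφ
  letI : Algebra K p.K := ι.hom.toAlgebra
  letI : Algebra K (U.left.residueField u) := φ.hom.toAlgebra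
  have h2 : Algebra.trdeg K p.K ≤ Algebra.trdeg K (U.left.residueField u) :=
    trdeg_le_of_injective (R := K) { j.hom with commutes' := fun _ => rfl } j.hom.injective
  exact (OrderHomClass.mono Cardinal.toENat (h2.trans h1)).trans htr

end Groth.Agent.EssDimFib
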