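import Groth.Prelude.Def_EssDim
import Groth.Agent.EssDimFib.Space
import Groth.Agent.AlgStB.SubstackPoints
import Groth.Agent.AlgStB.OfSp

/-!
# Essential dimension along representable morphisms of bounded relative dimension
-/

set_option autoImplicit false
set_option linter.style.haveILetI false
set_option backward.isDefEq.respectTransparency false
set_option backward.isDefEq.respectTransparency.types false

universe u

open CategoryTheory CategoryTheory.Limits AlgebraicGeometry Opposite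

namespace Groth.Agent.EssDimFib

open Groth.Agent.AlgStB Groth.Agent.AlgSpc
open _root_.AlgSp (Sp LocP IsAlgSpace yon IsQuasiSeparatedMor)

section Fib

variable {S : Scheme.{u}} {𝒳 𝒴 : AlgSt.Cat S}

/-- An object with a map to `b` after `F` gives an object of a fibre product. -/
theorem exists_fp_obj (h𝒴 : FibCat.IsFibGrpd 𝒴.p) (F : 𝒳 ⥤ᵇ 𝒴) {U T : Over S} (b : 𝒴.obj)
    (hb : 𝒴.p.obj b = U) (a : 𝒳.obj) (ha : 𝒳.p.obj a = T) (r : T ⟶ U) (φ : F.obj a ⟶ b)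
    (hφ : 𝒴.p.IsHomLift r φ) :
    ∃ (Y₀ : FibCat.overCat U ⥤ᵇ 𝒴) (α : Y₀.obj (Over.mk r) ≅ F.obj a),
      𝒴.p.IsHomLift (𝟙 T) α.hom := by
  subst hb
  obtain ⟨y, e, he⟩ := exists_chart h𝒴 b
  have hm := chart_isHomLift y e he r
  haveI := Fib.isStronglyCartesian_of_isFibGrpd 𝒴.p h𝒴 r φ
  let f := Functor.IsCartesian.map 𝒴.p r φ
    (y.map (Over.homMk r (Category.comp_id _) : Over.mk r ⟶ Over.mk (𝟙 _)) ≫ e.hom)
  have hf : 𝒴.p.IsHomLift (𝟙 T) f := inferInstance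
  haveI := Fib.isStronglyCartesian_of_isFibGrpd 𝒴.p h𝒴 (𝟙 T) f
  haveI : IsIso f := Functor.IsStronglyCartesian.isIso_of_base_isIso 𝒴.p (𝟙 T) f
  exact ⟨y, asIso f, hf⟩

/-- Points of the representing space and their factorizations. -/
theorem exists_lift_point (h𝒳 : FibCat.IsFibGrpd 𝒳.p) {F : 𝒳 ⥤ᵇ 𝒴} {U T : Over S}
    (Y₀ : FibCat.overCat U ⥤ᵇ 𝒴) (a : 𝒳.obj) (r : T ⟶ U) (α : Y₀.obj (Over.mk r) ≅ F.obj a)
    (hα : 𝒴.p.IsHomLift (𝟙 T) α.hom) {W : Sp S} (E : AlgSt.ofSp W ⥤ᵇ FibCat.fp Y₀ F)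
    (hE : FibCat.IsEquivOver E) :
    ∃ l : (yon S).obj T ⟶ W,
      l ≫ AlgSt.spMapOfOver (BasedFunctor.comp E (FibCat.fpFst Y₀ F)) = (yon S).map r ∧
      ∀ (T' : Over S) (q : (yon S).obj T' ⟶ W) (c : T ⟶ T'), (yon S).map c ≫ q = l →
        ∃ (a' : 𝒳.obj) (φ : a ⟶ a'), 𝒳.p.obj a' = T' ∧ 𝒳.p.IsHomLift c φ := by
  let ξ := Fib.fpMk (F := Y₀) (G := F) (Over.mk r) a α hα
  obtain ⟨⟨T₁, s⟩, i, hi⟩ := Fib.exists_iso_over_of_isEquivOver hE ξ
  have hiT : (FibCat.fp Y₀ F).p.IsHomLift (𝟙 T) i.hom := hi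
  have hT : T₁ = T := (E.w_obj ⟨T₁, s⟩).symm.trans
    (IsHomLift.domain_eq (FibCat.fp Y₀ F).p (𝟙 T) i.hom)
  subst hT
  let l : (yon S).obj T₁ ⟶ W := (_root_.AlgSp.J S).uliftYonedaEquiv.symm s
  have hl : (_root_.AlgSp.J S).uliftYonedaEquiv l = s := Equiv.apply_symm_apply _ _
  have hi₁ : (FibCat.overCat U).p.IsHomLift (𝟙 T₁) i.hom.hom.fst := (Fib.fp_isHomLift_iff _ _).1 hi
  refine ⟨l, (_root_.AlgSp.J S).uliftYonedaEquiv.injective ?_, fun T' q c hc => ?_⟩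
  · rw [GrothendieckTopology.uliftYonedaEquiv_comp, hl]
    refine (AlgSt.spMapOfOver_app _ T₁ s).trans (congrArg ULift.up ?_)
    let Φ := BasedFunctor.comp E (FibCat.fpFst Y₀ F)
    have hw : i.hom.hom.fst.left ≫ r = (Φ.obj ⟨T₁, s⟩).hom := Over.w i.hom.hom.fst
    have hl' : i.hom.hom.fst.left = eqToHom (Φ.w_obj ⟨T₁, s⟩) :=
      (IsHomLift.fac' (FibCat.overCat U).p (𝟙 T₁) i.hom.hom.fst).trans (by simp)
    change eqToHom (Φ.w_obj ⟨T₁, s⟩).symm ≫ (Φ.obj ⟨T₁, s⟩).hom = _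
    rw [← hw, hl', eqToHom_trans_assoc, eqToHom_refl, Category.id_comp]
    exact (Category.id_comp r).symm
  · let s' := (_root_.AlgSp.J S).uliftYonedaEquiv q
    have hs : W.obj.map c.op s' = s := by
      rw [← hl, ← hc]
      exact (GrothendieckTopology.uliftYonedaEquiv_naturality _ q c)
    let ψ : (⟨T₁, s⟩ : (AlgSt.ofSp W).obj) ⟶ ⟨T', s'⟩ := ⟨c, hs⟩
    let η := E.obj ⟨T', s'⟩
    have hη : (FibCat.fp Y₀ F).p.IsHomLift (𝟙 T₁ ≫ c) (i.inv ≫ E.map ψ) := by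
      have h1 : (FibCat.fp Y₀ F).p.IsHomLift (𝟙 T₁) i.inv :=
        haveI := hiT
        inferInstance
      have h2 : (FibCat.fp Y₀ F).p.IsHomLift c (E.map ψ) :=
        haveI : (AlgSt.ofSp W).p.IsHomLift c ψ := IsHomLift.map (AlgSt.ofSp W).p ψ
        BasedFunctor.preserves_isHomLift E c ψ
      infer_instance
    rw [Category.id_comp] at hη
    have h3 := (Fib.fp_isHomLift_iff _ _).1 hη
    refine ⟨η.obj.snd, (i.inv ≫ E.map ψ).hom.snd, (Fib.fp_snd_obj η).trans ?_, ?_⟩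
    · exact E.w_obj ⟨T', s'⟩
    · haveI : 𝒴.p.IsHomLift c (Y₀.map (i.inv ≫ E.map ψ).hom.fst) :=
        haveI := h3
        BasedFunctor.preserves_isHomLift Y₀ c _
      refine (BasedFunctor.isHomLift_iff F c _).1 ?_
      have hw := (i.inv ≫ E.map ψ).hom.w
      have hη' : 𝒴.p.IsHomLift (𝟙 T') η.obj.iso.hom := by
        have h : 𝒴.p.IsHomLift (𝟙 ((FibCat.overCat U).p.obj η.obj.fst)) η.obj.iso.hom := η.property
        rwa [show (FibCat.overCat U).p.obj η.obj.fst = T' from E.w_obj ⟨T', s'⟩] at h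
      have h4 : 𝒴.p.IsHomLift (𝟙 T₁ ≫ c ≫ 𝟙 T')
          (α.inv ≫ Y₀.map (i.inv ≫ E.map ψ).hom.fst ≫ η.obj.iso.hom) := by
        haveI := hα
        haveI := hη'
        infer_instance
      rw [Category.id_comp, Category.comp_id] at h4
      change Y₀.map (i.inv ≫ E.map ψ).hom.fst ≫ η.obj.iso.hom =
        α.hom ≫ F.map (i.inv ≫ E.map ψ).hom.snd at hw
      rw [hw, Iso.inv_hom_id_assoc] at h4
      exact h4

end Fib

section EssDim

open _root_.EssDim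

variable {k : Type u} [Field k] {𝒳 𝒴 : AlgSt.Cat (Spec (CommRingCat.of k))}
  [FibCat.IsFibGrpd 𝒳.p] [FibCat.IsFibGrpd 𝒴.p] {L : Type u} [Field L] [Algebra k L]

/-- An object coming from a field mapping into `L` descends to the image of that field. -/
theorem descends_fieldRange {κ : Type u} [Field κ] [Algebra k κ] (c : κ →ₐ[k] L)
    (x : StkCnt.pts 𝒳 L) (x₀ : StkCnt.pts 𝒳 κ) (φ : x.1 ⟶ x₀.1) (hφ : 𝒳.p.IsHomLift (resPt c) φ) :
    Descends (Gerb.isoClPsh 𝒳) (Quot.mk (Gerb.IsoRel 𝒳 (SGA7.pt (K := k) L)) x) c.fieldRange := by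
  let e : κ ≃ₐ[k] c.fieldRange := AlgEquiv.ofInjectiveField c
  have hc : c.fieldRange.val.comp e.toAlgHom = c := by ext z; rfl
  refine ⟨fmap e.toAlgHom (Quot.mk _ x₀), ?_⟩
  simp only [fmap]
  rw [← ConcreteCategory.comp_apply, ← (Gerb.isoClPsh 𝒳).map_comp, ← op_comp, ← resPt_comp, hc]
  change Quot.mk _ (Gerb.pullFib 𝒳 (resPt c) x₀) = Quot.mk _ x
  refine (Quot.sound ?_).symm
  let f := resPt c ≫ eqToHom x₀.2.symm
  have hp := Gerb.pullHom_isHomLift 𝒳 x₀.1 f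
  haveI := Fib.isStronglyCartesian_of_isFibGrpd 𝒳.p ‹_› f (Gerb.pullHom 𝒳 x₀.1 f)
  haveI : 𝒳.p.IsHomLift f φ := IsHomLift.of_fac' _ _ _ x.2 rfl (by
    rw [IsHomLift.fac' 𝒳.p (resPt c) φ]
    simp [f])
  exact ⟨⟨Functor.IsCartesian.map 𝒳.p f (Gerb.pullHom 𝒳 x₀.1 f) φ, inferInstance⟩⟩

/-- Essential dimension grows by at most the relative dimension. -/
theorem edStAt_le (F : 𝒳 ⥤ᵇ 𝒴) (d : ℕ)
    (hF : AlgSt.RepByAlgSpWith
      (LocP @LocallyOfFiniteType ⊓ IsQuasiSeparatedMor ⊓ fun _ _ g => CurvSt.RelDimLE d g) F)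
    (x : StkCnt.pts 𝒳 L) :
    edStAt 𝒳 x ≤ edStAt 𝒴 ⟨F.obj x.1, (F.w_obj x.1).trans x.2⟩ + d := by
  let ξ : FPt (Gerb.isoClPsh 𝒴) L := Quot.mk (Gerb.IsoRel 𝒴 (SGA7.pt (K := k) L)) (⟨F.obj x.1, (F.w_obj x.1).trans x.2⟩ : StkCnt.pts 𝒴 L)
  haveI : Nonempty {K : IntermediateField k L // Descends (Gerb.isoClPsh 𝒴) ξ K} := ⟨⟨⊤, descends_top ξ⟩⟩
  obtain ⟨⟨K, hK⟩, hmin⟩ := ciInf_mem fun K' : {K : IntermediateField k L //
    Descends (Gerb.isoClPsh 𝒴) ξ K} => Cardinal.toENat (Algebra.trdeg k K'.1)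
  obtain ⟨y₀, φ, hφ⟩ := (descends_isoCl_iff 𝒴 _ _).1 hK
  obtain ⟨Y₀, α, hα⟩ := exists_fp_obj ‹_› F y₀.1 y₀.2 x.1 x.2 (resPt K.val) φ hφ
  obtain ⟨W, E, hE, ⟨hl, hq⟩, hd⟩ := hF _ Y₀
  obtain ⟨l, hlπ, hlift⟩ := exists_lift_point ‹_› Y₀ x.1 (resPt K.val) α hα E hE
  obtain ⟨κ, _, str, q, c, hc, htr⟩ := exists_residue_factor W.property _ hl hq d hd l
  obtain ⟨a', ψ, ha', hψ⟩ := hlift _ q c hc
  let g := pre (q ≫ AlgSt.spMapOfOver (BasedFunctor.comp E (FibCat.fpFst Y₀ F)))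
  have hcg : c ≫ g = resPt K.val := (yon _).map_injective (by
    rw [Functor.map_comp, map_pre, ← Category.assoc, hc, hlπ])
  let ι : CommRingCat.of K ⟶ CommRingCat.of κ := Spec.preimage g.left
  let j : CommRingCat.of κ ⟶ CommRingCat.of L := Spec.preimage c.left
  letI : Algebra K κ := ι.hom.toAlgebra
  letI : Algebra k κ := (ι.hom.comp (algebraMap k K)).toAlgebra
  haveI : IsScalarTower k K κ := IsScalarTower.of_algebraMap_eq fun _ => rfl
  have hιj : ι ≫ j = CommRingCat.ofHom (K.val : K →+* L) := Spec.map_injective (by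
    rw [Spec.map_comp, Spec.map_preimage, Spec.map_preimage]
    exact congrArg CommaMorphism.left hcg)
  let cA : κ →ₐ[k] L := { j.hom with
    commutes' := fun z => congrArg (fun f : CommRingCat.of K ⟶ CommRingCat.of L =>
      f.hom (algebraMap k K z)) hιj }
  have hstr : str = Spec.map (CommRingCat.ofHom (algebraMap k κ)) := by
    refine (Over.w g).symm.trans ?_
    change g.left ≫ Spec.map (CommRingCat.ofHom (algebraMap k K)) = _
    rw [← Spec.map_preimage g.left, ← Spec.map_comp]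
    rfl
  have hobj : Over.mk str = SGA7.pt (K := k) κ := congrArg Over.mk hstr
  have hc' : c ≫ eqToHom hobj = resPt cA := Over.OverMorphism.ext (by
    rw [Over.comp_left, Over.eqToHom_left, eqToHom_refl, Category.comp_id]
    exact (Spec.map_preimage c.left).symm)
  have hψ' : 𝒳.p.IsHomLift (resPt cA) ψ := by
    rw [← hc']
    refine IsHomLift.of_fac' _ _ _ x.2 (ha'.trans hobj) ?_
    rw [IsHomLift.fac' 𝒳.p c ψ]
    simp
  refine (edAt_le_of_descends (descends_fieldRange cA x ⟨a', ha'.trans hobj⟩ ψ hψ')).trans ?_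
  have h1 : Algebra.trdeg k cA.fieldRange = Algebra.trdeg k κ :=
    (AlgEquiv.ofInjectiveField cA).trdeg_eq.symm
  rw [h1, ← trdeg_add_eq k K (A := κ), map_add]
  exact add_le_add hmin.le htr

end EssDim

end Groth.Agent.EssDimFib
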